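import Groth.Agent.Lib.PointBlowUp32.Chart
import Groth.Agent.Lib.UVan10.GlobGen
import Groth.Agent.Lib.CohFound.Qcqs
import Groth.Agent.Lib.CohFound.MV
import Groth.Agent.Lib.CohFound.HHBridge
import Mathlib

/-!
# Vanishing of first cohomology of globally generated modules on a point blowing up
-/

set_option autoImplicit false
set_option linter.style.haveILetI false
set_option linter.unusedSectionVars false
set_option backward.isDefEq.respectTransparency false
set_option maxHeartbeats 1000000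

universe u

open CategoryTheory CategoryTheory.Limits AlgebraicGeometry TopologicalSpace Opposite

noncomputable section

namespace Groth.Agent.BlowH1

/-- Sections over an affine open are combinations of global sections. -/
theorem mem_span_global {X : Scheme.{u}} {M : X.Modules} (hM : Coh.IsQCoh M) (hS : UVan10.SpanTop M)
    {W : X.Opens} (hW : IsAffineOpen W) (m : Γ(M, W)) :
    m ∈ Submodule.span Γ(X, W) (Set.range fun t : Γ(M, ⊤) => M1.mres M (le_top : W ≤ ⊤) t) := by
  haveI := hM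
  let N := Submodule.span Γ(X, W) (Set.range fun t : Γ(M, ⊤) => M1.mres M (le_top : W ≤ ⊤) t)
  let J : Ideal Γ(X, W) := N.colon {m}
  suffices hJ : J = ⊤ by
    have h1 : (1 : Γ(X, W)) ∈ J := hJ ▸ Submodule.mem_top
    have h2 := (Submodule.mem_colon.1 h1) m rfl
    rwa [one_smul] at h2
  by_contra hne
  obtain ⟨P, hP, hJP⟩ := Ideal.exists_le_maximal J hne
  let x := hW.fromSpec (⟨P, hP.isPrime⟩ : PrimeSpectrum Γ(X, W))
  have hx : x ∈ W := hW.range_fromSpec.le ⟨_, rfl⟩
  have hprime : (hW.primeIdealOf ⟨x, hx⟩).asIdeal = P := by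
    have h : hW.primeIdealOf ⟨x, hx⟩ = (⟨P, hP.isPrime⟩ : PrimeSpectrum Γ(X, W)) :=
      hW.fromSpec.isOpenEmbedding.injective (hW.fromSpec_primeIdealOf ⟨x, hx⟩)
    rw [h]
  letI := M1.stalkModule M hx
  haveI := M1.isLocalizedModule_germ M hW hx
  have hmem : ∀ a ∈ Submodule.span (X.presheaf.stalk x)
      (Set.range fun t : Γ(M, ⊤) => Amp.gm M x (U := ⊤) trivial t),
      ∃ (c : Γ(X, W)) (n : Γ(M, W)), c ∉ P ∧ n ∈ N ∧ c • a = M1.germₗ M hx n := fun a ha => by
    induction ha using Submodule.span_induction with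
    | mem w hw =>
      obtain ⟨t, rfl⟩ := hw
      refine ⟨1, M1.mres M (le_top : W ≤ ⊤) t, hP.isPrime.one_notMem, Submodule.subset_span ⟨t, rfl⟩, ?_⟩
      rw [one_smul]
      exact (M1.germ_mres M (le_top : W ≤ ⊤) hx t).symm
    | zero => exact ⟨1, 0, hP.isPrime.one_notMem, zero_mem _, by rw [smul_zero, map_zero]⟩
    | add a a' _ _ ha ha' =>
      obtain ⟨c, n, hc, hn, e⟩ := ha
      obtain ⟨c', n', hc', hn', e'⟩ := ha'
      refine ⟨c * c', c' • n + c • n', fun h => (hP.isPrime.mem_or_mem h).elim hc hc',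
        add_mem (N.smul_mem _ hn) (N.smul_mem _ hn'), ?_⟩
      rw [smul_add, map_add, map_smul, map_smul, ← e, ← e', smul_smul, smul_smul, mul_comm c' c]
    | smul r a _ ha =>
      obtain ⟨c, n, hc, hn, e⟩ := ha
      letI := TopCat.Presheaf.algebra_section_stalk X.presheaf (⟨x, hx⟩ : W)
      haveI := hW.isLocalization_stalk ⟨x, hx⟩
      obtain ⟨⟨r', s⟩, hrs⟩ := IsLocalization.surj (hW.primeIdealOf ⟨x, hx⟩).asIdeal.primeCompl r
      refine ⟨s * c, r' • n, fun h => (hP.isPrime.mem_or_mem h).elim (fun h' => s.2 (hprime.ge h')) hc,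
        N.smul_mem _ hn, ?_⟩
      rw [map_smul, ← e]
      show X.presheaf.germ W x hx (s * c) • r • a = X.presheaf.germ W x hx r' • X.presheaf.germ W x hx c • a
      rw [smul_smul, smul_smul, map_mul, show X.presheaf.germ W x hx r' = r * X.presheaf.germ W x hx s from hrs.symm]
      congr 1
      ring
  obtain ⟨c, n, hc, hn, e⟩ := hmem (M1.germₗ M hx m) (by rw [hS x]; exact Submodule.mem_top)
  rw [← map_smul] at e
  obtain ⟨d, hd⟩ := IsLocalizedModule.exists_of_eq (S := (hW.primeIdealOf ⟨x, hx⟩).asIdeal.primeCompl) e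
  have hdc : (d : Γ(X, W)) * c ∈ J := by
    rw [Submodule.mem_colon]
    intro z hz
    rw [Set.mem_singleton_iff] at hz
    subst hz
    rw [mul_smul]
    have h3 : (d : Γ(X, W)) • n ∈ N := N.smul_mem _ hn
    rw [← show d • (c • z) = (d : Γ(X, W)) • (c • z) from rfl, hd]
    exact h3
  exact (hP.isPrime.mem_or_mem (hJP hdc)).elim (fun h => d.2 (hprime.ge h)) hc

/-- Two affine opens whose functions span those of the intersection. -/
theorem subsingleton_hc_one {X : Scheme.{u}} {F : X.Modules} (hF : Coh.IsQCoh F) (hS : UVan10.SpanTop F)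
    {U V : X.Opens} (hU : IsAffineOpen U) (hV : IsAffineOpen V) (hUV : IsAffineOpen (U ⊓ V))
    (hsum : ∀ r : Γ(X, U ⊓ V), ∃ (a : Γ(X, U)) (c : Γ(X, V)),
      r = X.presheaf.map (homOfLE (inf_le_left : U ⊓ V ≤ U)).op a +
        X.presheaf.map (homOfLE (inf_le_right : U ⊓ V ≤ V)).op c) :
    Subsingleton (CohFound.Hc ((CohFound.abF X).obj F) 1 (U ⊔ V)) := by
  haveI : F.IsQuasicoherent := hF
  haveI := CohFound.subsingleton_hc_isAffineOpen F hU 0
  haveI := CohFound.subsingleton_hc_isAffineOpen F hV 0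
  refine subsingleton_of_forall_eq 0 fun x => ?_
  obtain ⟨v, rfl⟩ := CohFound.mv_exact x (Subsingleton.elim _ _) (Subsingleton.elim _ _)
  have key : ∀ m : Γ(F, U ⊓ V), ∀ r : Γ(X, U ⊓ V), ∃ (y : Γ(F, U)) (z : Γ(F, V)),
      r • m = M1.mres F (inf_le_left : U ⊓ V ≤ U) y + M1.mres F (inf_le_right : U ⊓ V ≤ V) z := fun m => by
    induction mem_span_global hF hS hUV m using Submodule.span_induction with
    | mem w hw =>
      obtain ⟨t, rfl⟩ := hw
      intro r
      obtain ⟨a, c, rfl⟩ := hsum r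
      refine ⟨a • M1.mres F (le_top : U ≤ ⊤) t, c • M1.mres F (le_top : V ≤ ⊤) t, ?_⟩
      show _ = F.presheaf.map _ _ + F.presheaf.map _ _
      rw [Scheme.Modules.map_smul, Scheme.Modules.map_smul, add_smul]
      rw [M1.mres_mres, M1.mres_mres]
    | zero => exact fun r => ⟨0, 0, by rw [smul_zero, map_zero, map_zero, add_zero]⟩
    | add m m' _ _ hm hm' =>
      intro r
      obtain ⟨y, z, h⟩ := hm r
      obtain ⟨y', z', h'⟩ := hm' r
      exact ⟨y + y', z + z', by rw [smul_add, h, h', map_add, map_add]; abel⟩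
    | smul s m _ hm =>
      intro r
      obtain ⟨y, z, h⟩ := hm (r * s)
      exact ⟨y, z, by rw [smul_smul, h]⟩
  obtain ⟨y, z, h⟩ := key (CohFound.hc0 _ _ v) 1
  rw [one_smul] at h
  have hv : v = CohFound.rs ((CohFound.abF X).obj F) 0 (inf_le_left : U ⊓ V ≤ U) ((CohFound.hc0 _ U).symm y) -
      CohFound.rs ((CohFound.abF X).obj F) 0 (inf_le_right : U ⊓ V ≤ V) ((CohFound.hc0 _ V).symm (-z)) := by
    apply (CohFound.hc0 ((CohFound.abF X).obj F) (U ⊓ V)).injective
    rw [map_sub, CohFound.hc0_rs, CohFound.hc0_rs, AddEquiv.apply_symm_apply, AddEquiv.apply_symm_apply]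
    exact h.trans (eq_sub_of_add_eq (by
      show _ + F.presheaf.map _ (-z) = F.presheaf.map _ y
      rw [map_neg]; exact add_neg_cancel_right _ _))
  rw [hv, CohFound.mvδ_sub]

section Charts

open Groth.Agent.PointBlowUp Groth.Agent.BlowUpExist Groth.Agent.BlowUpExist.ChartIdx

variable {A : Type u} [CommRing A] (a : Fin 2 → A) {C : (Spec (CommRingCat.of A)).IdealSheafData}
  (hC : C.ideal ⟨⊤, isAffineOpen_top _⟩ = Ideal.span (Set.range (gsec a)))
  {X : Scheme.{u}} {b : X ⟶ Spec (CommRingCat.of A)} (hb : BlowUp.IsBlowUp b C)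

include hC hb

/-- The functions of the two charts span those of the overlap. -/
theorem exists_sum (r : Γ(X, (cidx a hC 0).locus b ⊓ (cidx a hC 1).locus b)) :
    ∃ (u : Γ(X, (cidx a hC 0).locus b)) (v : Γ(X, (cidx a hC 1).locus b)),
      r = X.presheaf.map (homOfLE (inf_le_left : (cidx a hC 0).locus b ⊓ (cidx a hC 1).locus b ≤ _)).op u +
        X.presheaf.map (homOfLE (inf_le_right : (cidx a hC 0).locus b ⊓ (cidx a hC 1).locus b ≤ _)).op v := by
  classical
  let G0 := (cidx a hC 0).locus b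
  let G1 := (cidx a hC 1).locus b
  let W := G0 ⊓ G1
  have hG0 : IsAffineOpen G0 := isAffineOpen_locus hb _
  let res0 : Γ(X, G0) →+* Γ(X, W) := (X.presheaf.map (homOfLE (inf_le_left : W ≤ G0)).op).hom
  let res1 : Γ(X, G1) →+* Γ(X, W) := (X.presheaf.map (homOfLE (inf_le_right : W ≤ G1)).op).hom
  obtain ⟨t0, ht0, hgen⟩ := chart_generated a hC hb 0
  obtain ⟨t1, ht1, -⟩ := chart_generated a hC hb 1
  let ρ : (G : X.Opens) → A →+* Γ(X, G) := fun G => (X.presheaf.map (homOfLE (le_top : G ≤ ⊤)).op).hom.comp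
    (b.appTop.hom.comp (Scheme.ΓSpecIso (CommRingCat.of A)).inv.hom)
  have hres0 : ∀ c, res0 (ρ G0 c) = ρ W c := fun c => by
    show X.presheaf.map _ (X.presheaf.map _ _) = _
    rw [← ConcreteCategory.comp_apply, ← Functor.map_comp]; rfl
  have hres1 : ∀ c, res1 (ρ G1 c) = ρ W c := fun c => by
    show X.presheaf.map _ (X.presheaf.map _ _) = _
    rw [← ConcreteCategory.comp_apply, ← Functor.map_comp]; rfl
  have hρ : ∀ G i, fres a b G i = ρ G (a i) := fun G i => rfl
  have e0 : ρ W (a 0) * res0 t0 = ρ W (a 1) := by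
    have h := congrArg res0 ht0
    rw [map_mul, hρ, hρ, hres0, hres0] at h
    exact h
  have e1 : ρ W (a 1) * res1 t1 = ρ W (a 0) := by
    have h := congrArg res1 ht1
    rw [map_mul, hρ, hρ, hres1, hres1] at h
    exact h
  -- the overlap is the locus where `t0` is invertible
  have hle : X.basicOpen t0 ≤ G1 := by
    refine le_locus (mem_basicOpen_ι (cidx a hC 1) hb.1 (V := ⟨G0, hG0⟩) (fun _ _ => trivial)
      (e := fres a b G0 0) ?_ t0 ?_)
    · rw [show ((cidx a hC 1).n + 1) = 1 from rfl, pow_one]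
      exact ⟨fres_mem_nzd a hC hb 0, ideal_locus a hC hb 0⟩
    · exact ht0.symm
  have hB : X.basicOpen t0 ≤ W := le_inf (X.basicOpen_le t0) hle
  letI := (X.presheaf.map (homOfLE (X.basicOpen_le t0)).op).hom.toAlgebra
  haveI : IsLocalization.Away t0 Γ(X, X.basicOpen t0) := hG0.isLocalization_basicOpen t0
  have hnzd : ρ (X.basicOpen t0) (a 0) ∈ nonZeroDivisors Γ(X, X.basicOpen t0) := by
    have h := IsLocalization.map_nonZeroDivisors_le (Submonoid.powers t0) Γ(X, X.basicOpen t0)
      ⟨_, fres_mem_nzd a hC hb 0, rfl⟩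
    convert h using 1
    show _ = X.presheaf.map _ (X.presheaf.map _ _)
    rw [← ConcreteCategory.comp_apply, ← Functor.map_comp]; rfl
  have hWle : W ≤ X.basicOpen t0 := by
    intro x hx
    rw [Scheme.mem_basicOpen X t0 x hx.1]
    obtain ⟨V, hxV, hVW, hVnz⟩ : ∃ (V : X.affineOpens), x ∈ V.1 ∧ ∃ hVW : V.1 ≤ W,
        X.presheaf.map (homOfLE hVW).op (ρ W (a 0)) ∈ nonZeroDivisors Γ(X, V.1) := by
      obtain ⟨V, hV, hxV, hVW⟩ := exists_isAffineOpen_mem_and_subset (X := X) (x := x) (U := W) hx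
      refine ⟨⟨V, hV⟩, hxV, hVW, ?_⟩
      have h := (isEqn_restrict hb.1 (W := ⟨G0, hG0⟩) (f := fres a b G0 0)
        ⟨fres_mem_nzd a hC hb 0, ideal_locus a hC hb 0⟩ ⟨V, hV⟩ (fun z hz => (hVW hz).1)).mem
      convert h using 1
      show X.presheaf.map _ (X.presheaf.map _ _) = X.presheaf.map _ (X.presheaf.map _ _)
      rw [← ConcreteCategory.comp_apply, ← ConcreteCategory.comp_apply, ← Functor.map_comp, ← Functor.map_comp]
      rfl
    let w : Γ(X, V.1) := X.presheaf.map (homOfLE hVW).op (res0 t0 * res1 t1)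
    have hw : w = 1 := by
      refine sub_eq_zero.1 ((mem_nonZeroDivisors_iff_right.1 hVnz) _ ?_)
      rw [sub_mul, one_mul, sub_eq_zero]
      show X.presheaf.map _ _ * X.presheaf.map _ _ = _
      rw [← map_mul]
      refine congrArg _ ?_
      rw [mul_comm, ← mul_assoc, e0, e1]
    have hunit : IsUnit (X.presheaf.germ V.1 x hxV w) := by rw [hw, map_one]; exact isUnit_one
    simp only [w, map_mul, IsUnit.mul_iff] at hunit
    have h := hunit.1
    rwa [TopCat.Presheaf.germ_res_apply, show res0 t0 = X.presheaf.map _ t0 from rfl,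
      TopCat.Presheaf.germ_res_apply] at h
  have hWeq : X.basicOpen t0 = W := le_antisymm hB hWle
  -- elements of the overlap
  let resB : Γ(X, W) →+* Γ(X, X.basicOpen t0) := (X.presheaf.map (homOfLE hB).op).hom
  have hresB : Function.Injective resB := by
    haveI : IsIso (homOfLE hB) := ⟨homOfLE hWeq.ge, Subsingleton.elim _ _, Subsingleton.elim _ _⟩
    exact (ConcreteCategory.bijective_of_isIso (X.presheaf.map (homOfLE hB).op)).1
  have hone : res0 t0 * res1 t1 = 1 := by
    apply hresB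
    refine sub_eq_zero.1 ((mem_nonZeroDivisors_iff_right.1 hnzd) _ ?_)
    rw [sub_mul, map_one, one_mul, sub_eq_zero,
      show ρ (X.basicOpen t0) (a 0) = resB (ρ W (a 0)) from by
        show _ = X.presheaf.map _ (X.presheaf.map _ _)
        rw [← ConcreteCategory.comp_apply, ← Functor.map_comp]; rfl, ← map_mul]
    refine congrArg _ ?_
    rw [mul_comm, ← mul_assoc, e0, e1]
  obtain ⟨⟨r', _, n, rfl⟩, hr⟩ := IsLocalization.surj (Submonoid.powers t0) (resB r)
  have hr' : r * res0 t0 ^ n = res0 r' := by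
    apply hresB
    rw [map_mul, map_pow]
    have e : ∀ z : Γ(X, G0), resB (res0 z) = algebraMap Γ(X, G0) Γ(X, X.basicOpen t0) z := fun z => by
      show X.presheaf.map _ (X.presheaf.map _ z) = _
      rw [← ConcreteCategory.comp_apply, ← Functor.map_comp]; rfl
    rw [e, e, ← map_pow]
    exact hr
  have hrep : r = res0 r' * res1 t1 ^ n := by
    rw [← hr', mul_assoc, ← mul_pow, hone, one_pow, mul_one]
  obtain ⟨p, hp⟩ := hgen r'
  rw [hp] at hrep
  clear hr hr' hp
  show ∃ (u : Γ(X, G0)) (v : Γ(X, G1)), r = res0 u + res1 v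
  subst hrep
  induction p using Polynomial.induction_on' with
  | add p q hp hq =>
    obtain ⟨u, v, h⟩ := hp
    obtain ⟨u', v', h'⟩ := hq
    exact ⟨u + u', v + v', by rw [Polynomial.eval₂_add, map_add, add_mul, h, h', map_add, map_add]; abel⟩
  | monomial k c =>
    rw [Polynomial.eval₂_monomial, map_mul, map_pow]
    rcases le_total n k with hk | hk
    · obtain ⟨d, rfl⟩ := Nat.exists_eq_add_of_le hk
      refine ⟨ρ G0 c * t0 ^ d, 0, ?_⟩
      rw [map_zero, add_zero, map_mul, map_pow, pow_add, mul_assoc,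
        mul_right_comm (res0 t0 ^ n), ← mul_pow, hone, one_pow, one_mul]
    · obtain ⟨d, rfl⟩ := Nat.exists_eq_add_of_le hk
      refine ⟨0, ρ G1 c * t1 ^ d, ?_⟩
      rw [map_zero, zero_add, map_mul, map_pow, pow_add, mul_assoc, ← mul_assoc (res0 t0 ^ k), ← mul_pow, hone,
        one_pow, one_mul, show res0 (ρ G0 c) = res1 (ρ G1 c) from (hres0 c).trans (hres1 c).symm]

/-- First cohomology of globally generated modules vanishes. -/
theorem subsingleton_HH_one [X.IsSeparated] {F : X.Modules} (hF : Coh.IsQCoh F)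
    (hgg : Curv2.IsGloballyGenerated F) : Subsingleton (Coh.HH X F 1) := by
  rw [CohFound.subsingleton_HH_iff]
  have htop : (cidx a hC 0).locus b ⊔ (cidx a hC 1).locus b = ⊤ := by
    refine eq_top_iff.2 fun x _ => ?_
    obtain ⟨k, hk⟩ := exists_mem_locus a hC hb x
    fin_cases k
    · exact Opens.mem_sup.2 (Or.inl hk)
    · exact Opens.mem_sup.2 (Or.inr hk)
  have h := subsingleton_hc_one hF (UVan10.spanTop_of_isGloballyGenerated hgg)
    (isAffineOpen_locus hb (cidx a hC 0)) (isAffineOpen_locus hb (cidx a hC 1))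
    ((isAffineOpen_locus hb (cidx a hC 0)).inf (isAffineOpen_locus hb (cidx a hC 1))) (exists_sum a hC hb)
  rwa [htop] at h

end Charts

end Groth.Agent.BlowH1
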